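import Cfsg.Agent.H448.Van.Rows
import Cfsg.Agent.H695.OneZero.E8Row
import Cfsg.Agent.H279.OZ.Kaw
import Cfsg.Agent.Nodes.RGDTwAll
import Cfsg.Agent.S1054
import Cfsg.Agent.S1062

/-!
# S4842, row `F₄(q)`, `q ≥ 3`: the outer part (helper858)

`out_F4` : an irreducible character of `F₄(q)` with exactly one class of zeros has `∑_{p-elements} χ = p ^ (24 a) χ(1)`, and its
degree is prime to a primitive prime `r ∣ q⁴ + 1`.
`contra_F4` : such an `r` divides the degrees of the four candidates.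
-/

set_option autoImplicit false

namespace Cfsg.Agent.H858.OZ

open Cfsg Cfsg.Lie Cfsg.Agent.Characters Cfsg.Agent.H730.OZ Cfsg.Agent.H448.Van
open Cfsg.Agent.H732.VZ (One Iso dvd_cases)

universe u

/-- an isolated prime does not divide the degree -/
theorem not_dvd_deg {G : Type u} [Group G] [Finite G] {p r : ℕ} (h : Iso G p r) {χ : G → ℂ} (hχ : IsIrrCharacter G χ)
    (h1 : OneZero χ) : ¬ r ∣ charDegree χ := by
  classical
  have := Fintype.ofFinite G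
  obtain ⟨x, hx0, hx⟩ := h1
  obtain ⟨hr, -, z, hz, h1, h2, -, h4⟩ := h
  have hOne : One (⟨χ, hχ⟩ : IrrCharacter G) x := ⟨hx0, hx⟩
  intro hd
  obtain ⟨h5, h6⟩ := dvd_cases hOne hr hz h1 h2 hd
  rcases h4 with h4 | ⟨m, hm1, hm2⟩
  · exact h4 h5
  · exact hm2 (h6 m hm1)

/-- the middle value -/
theorem mid_F4 {a m : ℕ} {e : ℤ} (ha : 0 < a) (hm : 0 < m) (hm2 : m < 48 * a)
    (h1 : a * 8 ∣ 2 * m) (h2 : a * 12 ∣ 2 * m) (h3 : e = -1 → ¬ a * 12 ∣ m)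
    (h4 : e = 1 → a * 8 ∣ m ∧ a * 12 ∣ m) (he : e = 1 ∨ e = -1) : e = 1 ∧ m = 24 * a := by
  have key : ∀ M, a * 8 ∣ M → a * 12 ∣ M → a * 24 ∣ M := by
    intro M h5 h6
    obtain ⟨c, hc⟩ := (Dvd.intro 8 rfl : a ∣ a * 8).trans h5
    rw [hc] at h5 h6 ⊢
    have h7 := Nat.dvd_of_mul_dvd_mul_left ha h5
    have h8 := Nat.dvd_of_mul_dvd_mul_left ha h6
    apply Nat.mul_dvd_mul_left
    omega
  rcases he with rfl | rfl
  · obtain ⟨h5, h6⟩ := h4 rfl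
    obtain ⟨c, hc⟩ := key m h5 h6
    refine ⟨rfl, ?_⟩
    have h5 : c < 2 := by
      by_contra hcon
      have : a * 24 * 2 ≤ a * 24 * c := Nat.mul_le_mul_left _ (by omega)
      omega
    have h6 : c = 1 := by
      rcases Nat.eq_zero_or_pos c with rfl | h6
      · omega
      · omega
    subst h6
    omega
  · exfalso
    obtain ⟨c, hc⟩ := key (2 * m) h1 h2
    apply h3 rfl
    refine ⟨c, ?_⟩
    have : a * 24 * c = 2 * (a * 12 * c) := by ring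
    omega

theorem neg_one_two : (-1 : ZMod 2) = 1 := by decide

/-- a primitive prime of order `8 a` -/
theorem dvd_of_ord {p a r : ℕ} (ha : 0 < a) (hr : r.Prime) (ho : orderOf (p : ZMod r) = a * 8) :
    r ≠ 2 ∧ r ∣ (p ^ a) ^ 4 + 1 := by
  have : Fact r.Prime := ⟨hr⟩
  have h8 : ((p : ZMod r) ^ (a * 4)) * ((p : ZMod r) ^ (a * 4)) = 1 := by
    rw [← pow_add, show a * 4 + a * 4 = a * 8 by ring, ← ho, pow_orderOf_eq_one]
  have h4 : (p : ZMod r) ^ (a * 4) ≠ 1 := by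
    intro h
    have h1 := orderOf_dvd_of_pow_eq_one h
    rw [ho] at h1
    have := Nat.le_of_dvd (by omega) h1
    omega
  have h5 : (p : ZMod r) ^ (a * 4) = -1 := (mul_self_eq_one_iff.1 h8).resolve_left h4
  refine ⟨?_, ?_⟩
  · rintro rfl
    apply h4
    rw [h5]
    exact neg_one_two
  · rw [← ZMod.natCast_eq_zero_iff]
    push_cast
    rw [← pow_mul, h5]
    ring

/-- **The outer part** -/
theorem out_F4 {F : Type u} [Field F] [Fintype F] {p a : ℕ} (hp : p.Prime) (ha : 0 < a) (hF : Fintype.card F = p ^ a)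
    (hq : 3 ≤ p ^ a) {χ : ↥(chevF4.group F) → ℂ} (hχ : IsIrrCharacter _ χ) (h1 : OneZero χ) :
    (∑ᶠ u ∈ pSet p ↥(chevF4.group F), χ u = (p : ℂ) ^ (24 * a) * χ 1) ∧
      ∃ r, r.Prime ∧ r ≠ 2 ∧ r ∣ (p ^ a) ^ 4 + 1 ∧ ¬ r ∣ charDegree χ := by
  have hs : IsSimpleGroup ↥(chevF4.group F) := (Cfsg.Agent.S1054.result (F := F) chevF4 (by simp)).1
  have : Fact p.Prime := ⟨hp⟩
  have : CharP F p := charP_of_card_eq_prime_pow hF
  have hK : Kaw p ↥(chevF4.group F) := H279.OZ.kaw_of_hasRGD hp (Nodes.RGDChev.hasRGD_F4 F p)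
  have hG := Cfsg.Agent.S1062.result hF
  have hL : (([2, 6, 8, 12] : List ℕ).map fun d => (p ^ a) ^ d - 1).prod = ((p ^ a) ^ 2 - 1) *
      ((p ^ a) ^ 6 - 1) * ((p ^ a) ^ 8 - 1) * ((p ^ a) ^ 12 - 1) := by
    simp only [List.map_cons, List.map_nil, List.prod_cons, List.prod_nil, mul_one, mul_assoc]
  have hG' : 1 * Nat.card ↥(chevF4.group F) =
      p ^ (24 * a) * (([2, 6, 8, 12] : List ℕ).map fun d => (p ^ a) ^ d - 1).prod := by
    rw [hG, hL, one_mul]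
    simp only [← pow_mul]
    rw [mul_comm a 24]
    ring
  have hv : (Nat.card ↥(chevF4.group F)).factorization p = 24 * a :=
    fact_of hp (fun h => hp.one_lt.ne' (Nat.dvd_one.1 h))
      (not_dvd_prod hp ha (fun d hd => by simp at hd; omega)) Nat.card_pos.ne' hG'
  obtain ⟨r, hr, hro⟩ := H448.Van.good_F4_8 hp ha hF
  obtain ⟨s, hs', hso⟩ := H448.Van.good_F4_12 hp ha hF (by omega)
  refine ⟨?_, r, hr.prime, (dvd_of_ord ha hr.prime hro).1, (dvd_of_ord ha hr.prime hro).2, not_dvd_deg hr.iso hχ h1⟩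
  by_contra hcon
  refine H695.OneZero.none_of_sum hs hp hv (by omega) hK ?_ hχ h1 ?_
  · rw [show 2 * (24 * a) = a * 48 by ring]
    refine not_dvd_card hp ha (by norm_num) (N := 24 * a) (L := [2, 6, 8, 12]) ?_ (fun d hd => by simp at hd; omega)
    rw [← hG', one_mul]
  · intro m e he hm hm2 hsum
    have hc : ∀ r k : ℕ, Cong p r k ↥(chevF4.group F) → (r : ℤ) ∣ e * (p : ℤ) ^ m - (p : ℤ) ^ k :=
      fun r k hrk => hrk χ hχ h1 m e he hsum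
    obtain ⟨h1, -, h3⟩ := ords hp hr hro (by omega) hc he
    obtain ⟨h4, h5, h6⟩ := ords hp hs' hso (by omega) hc he
    obtain ⟨rfl, rfl⟩ := mid_F4 ha hm (by omega) h1 h4 h5 (fun h => ⟨h3 h, h6 h⟩) he
    apply hcon
    rw [hsum]
    push_cast
    ring

/-- **The degrees of the candidates** -/
theorem contra_F4 {q r : ℕ} {D : ℤ} (hr : r.Prime) (hr2 : r ≠ 2) (hrq : r ∣ q ^ 4 + 1)
    (h : 8 * D = (q : ℤ) ^ 4 * (1 + (q : ℤ) ^ 2) ^ 2 * ((q : ℤ) ^ 2 - q + 1) ^ 2 * (1 + (q : ℤ) ^ 4) *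
        ((q : ℤ) ^ 4 - (q : ℤ) ^ 2 + 1) ∨
      4 * D = (q : ℤ) ^ 4 * (1 + (q : ℤ)) ^ 2 * (1 + (q : ℤ) ^ 2) * ((q : ℤ) ^ 2 - q + 1) ^ 2 * (1 + (q : ℤ) ^ 4) *
        ((q : ℤ) ^ 4 - (q : ℤ) ^ 2 + 1)) : (r : ℤ) ∣ D := by
  have hrq' : (r : ℤ) ∣ 1 + (q : ℤ) ^ 4 := by
    have : (r : ℤ) ∣ ((q ^ 4 + 1 : ℕ) : ℤ) := Int.natCast_dvd_natCast.2 hrq
    push_cast at this
    rwa [add_comm]
  have hrp : Prime (r : ℤ) := Nat.prime_iff_prime_int.1 hr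
  have hr2' : ¬ (r : ℤ) ∣ 2 := by
    intro h
    have h1 : r ∣ 2 := by exact_mod_cast h
    exact hr2 ((Nat.prime_dvd_prime_iff_eq hr Nat.prime_two).1 h1)
  rcases h with h | h
  · have h1 : (r : ℤ) ∣ 2 ^ 3 * D := by
      rw [show (2 : ℤ) ^ 3 * D = 8 * D by ring, h]
      exact ((hrq'.mul_left _).mul_right _)
    exact (hrp.dvd_mul.1 h1).resolve_left fun h => hr2' (hrp.dvd_of_dvd_pow h)
  · have h1 : (r : ℤ) ∣ 2 ^ 2 * D := by
      rw [show (2 : ℤ) ^ 2 * D = 4 * D by ring, h]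
      exact ((hrq'.mul_left _).mul_right _)
    exact (hrp.dvd_mul.1 h1).resolve_left fun h => hr2' (hrp.dvd_of_dvd_pow h)

/-- the form for the row: `F₄(q)`, `q ≥ 3`, the inner part `h` gives one of the two equations -/
theorem none_F4_of {F : Type u} [Field F] [Fintype F] {p a : ℕ} (hp : p.Prime) (ha : 0 < a)
    (hF : Fintype.card F = p ^ a) (hq : 3 ≤ p ^ a)
    (h : ∀ χ : ↥(chevF4.group F) → ℂ, IsIrrCharacter _ χ → OneZero χ →
      (∑ᶠ u ∈ pSet p ↥(chevF4.group F), χ u = (p : ℂ) ^ (24 * a) * χ 1) → ∃ q : ℕ, q = p ^ a ∧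
      (8 * (charDegree χ : ℤ) = (q : ℤ) ^ 4 * (1 + (q : ℤ) ^ 2) ^ 2 * ((q : ℤ) ^ 2 - q + 1) ^ 2 * (1 + (q : ℤ) ^ 4) *
        ((q : ℤ) ^ 4 - (q : ℤ) ^ 2 + 1) ∨
      4 * (charDegree χ : ℤ) = (q : ℤ) ^ 4 * (1 + (q : ℤ)) ^ 2 * (1 + (q : ℤ) ^ 2) * ((q : ℤ) ^ 2 - q + 1) ^ 2 *
        (1 + (q : ℤ) ^ 4) * ((q : ℤ) ^ 4 - (q : ℤ) ^ 2 + 1))) : NoOne ↥(chevF4.group F) := by
  intro χ hχ h1
  obtain ⟨h2, r, hr, hr2, hrq, hrd⟩ := out_F4 hp ha hF hq hχ h1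
  obtain ⟨q, rfl, h3⟩ := h χ hχ h1 h2
  exact hrd (Int.natCast_dvd_natCast.1 (contra_F4 hr hr2 hrq h3))

end Cfsg.Agent.H858.OZ
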